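import Cfsg.Agent.H365.PiFi.Base
import Cfsg.Agent.R08.AutT
import Cfsg.Agent.R01.Fi22Facts
import Cfsg.Agent.H209.PiSpor.Tools

/-!
# S4324, the Fischer group `Fi22`: `NCs 3` and `NCs 5` (helper365)
-/

set_option autoImplicit false

namespace Cfsg.Agent.H365.PiFi.Fi22

open Subgroup Cfsg Cfsg.Spor Cfsg.Agent.H216.Pi Cfsg.Agent.Fischer.Fi22Order Cfsg.Agent.Fischer.Fi22PtsRep
open Cfsg.Agent.R01

universe u

theorem rank3 : Rank3 Spor.Fi22 Fi22Facts.T where
  gen := Fi22Facts.isThreeTranspositionClass_T.2.2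
  sq t ht := by
    obtain ⟨h, -⟩ := Fi22Facts.isThreeTranspositionClass_T.1
    have h1 := h t ht
    have h2 := pow_orderOf_eq_one t
    rw [h1, pow_two] at h2
    exact h2
  aut α _ hx := R08.AutT.aut_mem α hx
  trans2 := fun a ha b hb a' ha' b' hb' n n' h h' => Fi22Facts.trans_commuting a ha b hb a' ha' b' hb' n n' h h'
  transN := fun a ha b hb a' ha' b' hb' h h' => Fi22Facts.trans_noncommuting a ha b hb a' ha' b' hb' (fun h1 => h h1) (fun h1 => h' h1)

theorem sq_of {x : Fi22.Gen} : gen x * gen x = 1 := by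
  have h := gen_cox x x
  rw [coxLabel, if_pos rfl, pow_one] at h
  exact h

theorem path : Path4 (gen .a) (gen .b) (gen .c) (gen .d) := by
  have hc : ∀ {x y : Fi22.Gen}, coxLabel Fi22.edges x y = 2 → gen y * gen x = gen x * gen y := by
    intro x y h
    have h1 := gen_cox x y
    rw [h, pow_two] at h1
    have h2 : gen x * gen y = (gen x * gen y)⁻¹ := eq_inv_of_mul_eq_one_left h1
    rw [mul_inv_rev, inv_eq_of_mul_eq_one_left (sq_of (x := x)), inv_eq_of_mul_eq_one_left (sq_of (x := y))] at h2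
    exact h2.symm
  have hb : ∀ {x y : Fi22.Gen}, coxLabel Fi22.edges x y = 3 → gen y * gen x * gen y = gen x * gen y * gen x := by
    intro x y h
    have h1 := gen_cox x y
    rw [h] at h1
    have h2 : gen x * gen y * gen x = (gen y * gen x * gen y)⁻¹ := by
      apply eq_inv_of_mul_eq_one_left
      rw [← h1]
      simp only [pow_succ, pow_zero, one_mul, mul_assoc]
    rw [h2, mul_inv_rev, mul_inv_rev, inv_eq_of_mul_eq_one_left (sq_of (x := x)),
      inv_eq_of_mul_eq_one_left (sq_of (x := y)), mul_assoc]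
  exact ⟨sq_of, sq_of, sq_of, sq_of, hc (by decide), hc (by decide), hc (by decide), hb (by decide), hb (by decide),
    hb (by decide)⟩

theorem center_bot : center Spor.Fi22 = ⊥ := by
  have := Fi22Facts.isSimple
  rcases (inferInstance : (center Spor.Fi22).Normal).eq_bot_or_eq_top with h | h
  · exact h
  · exfalso
    apply ab_ne
    have h1 : gen .b ∈ center Spor.Fi22 := by rw [h]; exact mem_top _
    exact mem_center_iff.1 h1 _

/-- **`Fi22`, `s = 3, 5`** -/
theorem ncs_Fi22 {K : Type u} [Group K] [Finite K] (h : Spor.IsoFi22 K) : NCs 3 K ∧ NCs 5 K := by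
  obtain ⟨e⟩ := h
  have h1 := ncs center_bot rank3 path (Fi22Facts.gen_mem .a) (Fi22Facts.gen_mem .b) (Fi22Facts.gen_mem .c)
    (Fi22Facts.gen_mem .d) ab_ne
  exact ⟨H209.PiSpor.ncs_congr e.symm h1.1, H209.PiSpor.ncs_congr e.symm h1.2⟩

end Cfsg.Agent.H365.PiFi.Fi22
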