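import Mathlib
import Cfsg.Agent.H216.Pi.Base

/-!
# S4324: groups generated by a rank three class of 3-transpositions (helper365)

`K` generated by a class `T` of 3-transpositions, transitive on the ordered pairs of distinct commuting (non-commuting)
members, preserved by all automorphisms: for every automorphism `x ≠ 1` four conjugates of `x` generate a group with
elements of order 3 and of order 5 (six conjugates: of order 7).
-/

set_option autoImplicit false

namespace Cfsg.Agent.H365.PiFi

open Subgroup Cfsg Cfsg.Agent.H216.Pi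

section Cox

variable {K : Type*} [Group K]

/-- the relations of a path of length four -/
structure Path4 (a b c d : K) : Prop where
  aa : a * a = 1
  bb : b * b = 1
  cc : c * c = 1
  dd : d * d = 1
  ac : c * a = a * c
  ad : d * a = a * d
  bd : d * b = b * d
  ab : b * a * b = a * b * a
  bc : c * b * c = b * c * b
  cd : d * c * d = c * d * c

variable {a b c d : K}

theorem cancel_sq (h : a * a = 1) (z : K) : a * (a * z) = z := by rw [← mul_assoc, h, one_mul]

theorem comm_ext (h : c * a = a * c) (z : K) : c * (a * z) = a * (c * z) := by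
  rw [← mul_assoc, h, mul_assoc]

theorem braid (h : b * a * b = a * b * a) : b * (a * b) = a * (b * a) := by
  simpa only [mul_assoc] using h

theorem braid_ext (h : b * a * b = a * b * a) (z : K) : b * (a * (b * z)) = a * (b * (a * z)) := by
  have := congrArg (· * z) h
  simpa only [mul_assoc] using this

namespace Path4

variable (P : Path4 a b c d)
include P

theorem r1 : c * (b * (a * c)) = b * (c * (b * a)) := by
  rw [← P.ac, ← mul_assoc b, ← mul_assoc c]
  have h := P.bc
  calc c * (b * c) * a = c * b * c * a := by group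
    _ = b * c * b * a := by rw [h]
    _ = _ := by group

theorem r1e (z : K) : c * (b * (a * (c * z))) = b * (c * (b * (a * z))) := by
  have := congrArg (· * z) P.r1
  simpa only [mul_assoc] using this

theorem r2 : d * (c * (b * d)) = c * (d * (c * b)) := by
  rw [← P.bd, ← mul_assoc c, ← mul_assoc d]
  have h := P.cd
  calc d * (c * d) * b = d * c * d * b := by group
    _ = c * d * c * b := by rw [h]
    _ = _ := by group

theorem r2e (z : K) : d * (c * (b * (d * z))) = c * (d * (c * (b * z))) := by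
  have := congrArg (· * z) P.r2
  simpa only [mul_assoc] using this

theorem r3 : d * (c * (b * (a * d))) = c * (d * (c * (b * a))) := by
  rw [← P.ad, P.r2e]

theorem r3e (z : K) : d * (c * (b * (a * (d * z)))) = c * (d * (c * (b * (a * z)))) := by
  have := congrArg (· * z) P.r3
  simpa only [mul_assoc] using this

theorem pow_five_one : (a * c * (b * d)) ^ 5 = 1 := by
  simp only [pow_succ, pow_zero, one_mul, mul_assoc, P.aa, P.bb, P.cc, P.dd, cancel_sq P.aa, cancel_sq P.bb,
    cancel_sq P.cc, cancel_sq P.dd, P.ac, P.ad, P.bd, comm_ext P.ac, comm_ext P.ad, comm_ext P.bd, braid P.ab,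
    braid P.bc, braid P.cd, braid_ext P.ab, braid_ext P.bc, braid_ext P.cd, P.r1, P.r1e, P.r2, P.r2e, P.r3, P.r3e,
    mul_one]

theorem pow_five_two : (a * b * (c * d)) ^ 5 = 1 := by
  simp only [pow_succ, pow_zero, one_mul, mul_assoc, P.aa, P.bb, P.cc, P.dd, cancel_sq P.aa, cancel_sq P.bb,
    cancel_sq P.cc, cancel_sq P.dd, P.ac, P.ad, P.bd, comm_ext P.ac, comm_ext P.ad, comm_ext P.bd, braid P.ab,
    braid P.bc, braid P.cd, braid_ext P.ab, braid_ext P.bc, braid_ext P.cd, P.r1, P.r1e, P.r2, P.r2e, P.r3, P.r3e,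
    mul_one]

end Path4

/-- two commuting generators which satisfy the braid relation are equal -/
theorem eq_of_braid {u v : K} (h : v * u * v = u * v * u) (hc : v * u = u * v) : u = v := by
  rw [hc] at h
  exact (mul_left_cancel h).symm

namespace Path4

variable (P : Path4 a b c d) (hab : a * b ≠ b * a)
include P hab

theorem b_ne_c : b ≠ c := by
  rintro rfl
  exact hab P.ac.symm

theorem bc_nc : c * b ≠ b * c := fun h => P.b_ne_c hab (eq_of_braid P.bc h)

theorem c_ne_d : c ≠ d := by
  rintro rfl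
  exact P.bc_nc hab P.bd

theorem cd_nc : d * c ≠ c * d := fun h => P.c_ne_d hab (eq_of_braid P.cd h)

theorem a_ne_d : a ≠ d := by
  rintro rfl
  exact hab P.bd

theorem a_ne_c : a ≠ c := by
  rintro rfl
  exact P.cd_nc hab P.ad

theorem b_ne_d : b ≠ d := by
  rintro rfl
  exact hab P.ad.symm

theorem order_cd : orderOf (c * d) = 3 := by
  have := Fact.mk Nat.prime_three
  apply orderOf_eq_prime
  · have h1 : (c * d) ^ 3 = c * (d * c * d) * (c * d) := by
      simp only [pow_succ, pow_zero, one_mul, mul_assoc]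
    rw [h1, P.cd]
    have h2 : c * (c * d * c) * (c * d) = c * c * (d * (c * c) * d) := by group
    rw [h2, P.cc, one_mul, mul_one, P.dd]
  · intro h
    apply P.c_ne_d hab
    have h1 : c = d⁻¹ := eq_inv_of_mul_eq_one_left h
    rw [h1]
    exact inv_eq_of_mul_eq_one_left P.dd

theorem order_ab : orderOf (a * b) = 3 := by
  have := Fact.mk Nat.prime_three
  apply orderOf_eq_prime
  · have h1 : (a * b) ^ 3 = a * (b * a * b) * (a * b) := by
      simp only [pow_succ, pow_zero, one_mul, mul_assoc]
    rw [h1, P.ab]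
    have h2 : a * (a * b * a) * (a * b) = a * a * (b * (a * a) * b) := by group
    rw [h2, P.aa, one_mul, mul_one, P.bb]
  · intro h
    apply hab
    have h1 : a = b⁻¹ := eq_inv_of_mul_eq_one_left h
    rw [h1, inv_mul_cancel, mul_inv_cancel]

theorem order_five_one : orderOf (a * c * (b * d)) = 5 := by
  have := Fact.mk Nat.prime_five
  apply orderOf_eq_prime P.pow_five_one
  intro h
  apply hab
  have h1 : a * c = (b * d)⁻¹ := eq_inv_of_mul_eq_one_left h
  have hb : b⁻¹ = b := inv_eq_of_mul_eq_one_left P.bb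
  have hd : d⁻¹ = d := inv_eq_of_mul_eq_one_left P.dd
  rw [mul_inv_rev, hb, hd] at h1
  -- `a * c = d * b`
  have h2 : a * (d * b) = d * b * a := by
    rw [← h1, ← mul_assoc, P.aa, mul_assoc, P.ac, ← mul_assoc, P.aa]
  have h3 : d * (a * b) = d * (b * a) := by
    rw [← mul_assoc, P.ad, mul_assoc, h2, mul_assoc]
  exact mul_left_cancel h3

theorem order_five_two : orderOf (a * b * (c * d)) = 5 := by
  have := Fact.mk Nat.prime_five
  apply orderOf_eq_prime P.pow_five_two
  intro h
  apply hab
  have h1 : a * b = (c * d)⁻¹ := eq_inv_of_mul_eq_one_left h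
  have hc : c⁻¹ = c := inv_eq_of_mul_eq_one_left P.cc
  have hd : d⁻¹ = d := inv_eq_of_mul_eq_one_left P.dd
  rw [mul_inv_rev, hc, hd] at h1
  -- `a * b = d * c`
  have h2 : a * (a * b) = a * b * a := by
    rw [h1, ← mul_assoc, ← P.ad, mul_assoc, ← P.ac, mul_assoc]
  rw [mul_assoc] at h2
  exact mul_left_cancel h2

end Path4

end Cox

section Main

variable {K : Type*} [Group K] {T : Set K} {a b c d : K}

/-- what is used about the class `T` -/
structure Rank3 (K : Type*) [Group K] (T : Set K) : Prop where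
  gen : closure T = ⊤
  sq : ∀ t ∈ T, t * t = 1
  aut : ∀ α : K ≃* K, ∀ t ∈ T, α t ∈ T
  trans2 : ∀ a ∈ T, ∀ b ∈ T, ∀ a' ∈ T, ∀ b' ∈ T, a ≠ b → a' ≠ b' → a * b = b * a →
    a' * b' = b' * a' → ∃ g : K, g * a * g⁻¹ = a' ∧ g * b * g⁻¹ = b'
  transN : ∀ a ∈ T, ∀ b ∈ T, ∀ a' ∈ T, ∀ b' ∈ T, a * b ≠ b * a → a' * b' ≠ b' * a' →
    ∃ g : K, g * a * g⁻¹ = a' ∧ g * b * g⁻¹ = b'

theorem exists_moved (R : Rank3 K T) {x : MulAut K} (hx : x ≠ 1) : ∃ t ∈ T, x t ≠ t := by
  by_contra h
  push Not at h
  apply hx
  have h1 : (⊤ : Subgroup K) ≤ MonoidHom.eqLocus x.toMonoidHom (MonoidHom.id K) := by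
    rw [← R.gen, closure_le]
    intro t ht
    exact h t ht
  ext k
  exact h1 (mem_top k)

/-- the product of a moved transposition with its image -/
theorem inC_pair (R : Rank3 K T) {x : MulAut K} {t u v : K} (ht : t ∈ T) (k : K)
    (h1 : k * t * k⁻¹ = u) (h2 : k * x t * k⁻¹ = v) : H216.Pi.InC 2 x (MulAut.conj (u * v)) := by
  have h := H216.Pi.InC.commutator x t
  have h3 : x t⁻¹ = x t := by
    rw [map_inv]
    exact inv_eq_of_mul_eq_one_left (R.sq _ (R.aut x t ht))
  rw [h3] at h
  have h4 := h.cj k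
  rw [cj_conj] at h4
  have h5 : k * (t * x t) * k⁻¹ = u * v := by
    rw [← h1, ← h2]; group
  rwa [h5] at h4

/-- **four conjugates of `x ≠ 1` give elements of order 3 and 5** -/
theorem inC_three_five (R : Rank3 K T) (P : Path4 a b c d) (ha : a ∈ T) (hb : b ∈ T) (hc : c ∈ T) (hd : d ∈ T)
    (hab : a * b ≠ b * a) {x : MulAut K} (hx : x ≠ 1) :
    (∃ y : K, orderOf y = 3 ∧ H216.Pi.InC 4 x (MulAut.conj y)) ∧ (∃ y : K, orderOf y = 5 ∧ H216.Pi.InC 4 x (MulAut.conj y)) := by
  obtain ⟨t, ht, hxt⟩ := exists_moved R hx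
  have hxT := R.aut x t ht
  by_cases hcom : t * x t = x t * t
  · have key : ∀ u ∈ T, ∀ v ∈ T, u ≠ v → u * v = v * u → H216.Pi.InC 2 x (MulAut.conj (u * v)) := by
      intro u hu v hv huv huv'
      obtain ⟨k, h1, h2⟩ := R.trans2 t ht (x t) hxT u hu v hv (Ne.symm hxt) huv hcom huv'
      exact inC_pair R ht k h1 h2
    have k1 := key a ha c hc (P.a_ne_c hab) P.ac.symm
    have k2 := key a ha d hd (P.a_ne_d hab) P.ad.symm
    have k3 := key b hb d hd (P.b_ne_d hab) P.bd.symm
    constructor
    · refine ⟨c * d, P.order_cd hab, ?_⟩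
      have h1 := k1.mul k2
      rw [← map_mul] at h1
      have h2 : a * c * (a * d) = c * d := by
        rw [mul_assoc, ← mul_assoc c, P.ac, mul_assoc, ← mul_assoc, P.aa, one_mul]
      rwa [h2] at h1
    · refine ⟨a * c * (b * d), P.order_five_one hab, ?_⟩
      have h1 := k1.mul k3
      rwa [← map_mul] at h1
  · have key : ∀ u ∈ T, ∀ v ∈ T, u * v ≠ v * u → H216.Pi.InC 2 x (MulAut.conj (u * v)) := by
      intro u hu v hv huv
      obtain ⟨k, h1, h2⟩ := R.transN t ht (x t) hxT u hu v hv hcom huv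
      exact inC_pair R ht k h1 h2
    have k1 := key a ha b hb hab
    have k2 := key c hc d hd (P.cd_nc hab).symm
    constructor
    · exact ⟨a * b, P.order_ab hab, k1.mono (by norm_num)⟩
    · refine ⟨a * b * (c * d), P.order_five_two hab, ?_⟩
      have h1 := k1.mul k2
      rwa [← map_mul] at h1

/-- **the rows for `s = 3, 5`** -/
theorem ncs (hz : center K = ⊥) (R : Rank3 K T) (P : Path4 a b c d) (ha : a ∈ T) (hb : b ∈ T) (hc : c ∈ T)
    (hd : d ∈ T) (hab : a * b ≠ b * a) : NCs 3 K ∧ NCs 5 K := by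
  have hinj : Function.Injective (MulAut.conj : K →* MulAut K) := by
    rw [injective_iff_map_eq_one]
    intro g hg
    have h : g ∈ center K := by
      rw [mem_center_iff]
      intro k
      have h1 := congrArg (fun f : MulAut K => f k) hg
      simp only [MulAut.conj_apply, MulAut.one_apply] at h1
      exact (mul_inv_eq_iff_eq_mul.1 h1).symm
    rwa [hz, mem_bot] at h
  have key : ∀ {x : MulAut K}, (orderOf x).Prime → x ≠ 1 := by
    rintro x hx rfl
    rw [orderOf_one] at hx
    exact Nat.not_prime_one hx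
  constructor
  · intro x hx _ _ hFC
    obtain ⟨⟨y, hy, hin⟩, -⟩ := inC_three_five R P ha hb hc hd hab (key hx)
    refine hFC _ (hin.mono ((by norm_num : 4 ≤ 11).trans (mm_ge 3))) ?_
    rw [orderOf_injective _ hinj, hy]
  · intro x hx _ _ hFC
    obtain ⟨-, ⟨y, hy, hin⟩⟩ := inC_three_five R P ha hb hc hd hab (key hx)
    refine hFC _ (hin.mono ((by norm_num : 4 ≤ 11).trans (mm_ge 5))) ?_
    rw [orderOf_injective _ hinj, hy]

end Main

end Cfsg.Agent.H365.PiFi
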